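import Cfsg.Agent.H6.Co3.P.K

set_option autoImplicit false
set_option maxRecDepth 100000
set_option Elab.async false

namespace Cfsg.H6.Co3.D2

def c0 : Clm := ⟨0, 0, false, [], [1], 0, [], []⟩
def c1 : Clm := ⟨0, 0, false, [], [3], 0, [], []⟩
def c2 : Clm := ⟨0, 0, false, [], [5], 0, [], []⟩
def c3 : Clm := ⟨0, 0, false, [], [7], 0, [], []⟩
def c4 : Clm := ⟨0, 0, false, [], [9], 0, [], []⟩
def c5 : Clm := ⟨0, 0, false, [], [11], 0, [], []⟩
def c6 : Clm := ⟨0, 0, false, [], [13], 0, [], []⟩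
def c7 : Clm := ⟨0, 1, true, [], [], 1, [], []⟩
def c8 : Clm := ⟨1, 0, true, [], [], 5, [([], 7, [])], []⟩
def c9 : Clm := ⟨1, 1, false, [], [15,18,26,19], 3, [([], 7, []), ([7,5,9,13,8,4,6], 7, [16,20,24,21])], []⟩
def c10 : Clm := ⟨1, 1, false, [], [15,26], 3, [([], 7, []), ([11,9,3,8,10], 7, [16,24])], []⟩
def c11 : Clm := ⟨1, 1, false, [], [19,20,24,27,28,19,20], 3, [([], 7, []), ([7,5,9,11,13,3,4,6,8,10], 7, [18,21,24,27,28,18,21])], []⟩
def c12 : Clm := ⟨1, 1, false, [], [22], 3, [([], 7, []), ([1,11,9,12,10], 7, [22])], []⟩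
def c13 : Clm := ⟨1, 1, false, [], [21,22], 3, [([], 7, []), ([11,9,7,5,7,12,10,4,6], 7, [19,22])], []⟩
def c14 : Clm := ⟨1, 1, true, [16,22,1], [15,16,1], 7, [([], 7, []), ([0], 8, [15,22])], []⟩
def c15 : Clm := ⟨1, 2, true, [8,6,4,8], [], 1, [], []⟩
def c16 : Clm := ⟨2, 1, true, [], [15,7,3,5,7], 5, [([], 15, [])], []⟩
def c17 : Clm := ⟨2, 2, false, [], [21,22,24,21,26,28,18], 3, [([], 15, []), ([25,21,24], 15, [19,22,24,20,26,29,19])], []⟩
def c18 : Clm := ⟨2, 2, false, [], [19,20,24,21,27,18,28], 3, [([], 15, []), ([23,25,27,22,25,23,26,24,22], 15, [18,21,24,20,27,19,28])], []⟩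
def c19 : Clm := ⟨2, 2, true, [16,22,1], [20,22,24,26,29,18,1], 7, [([], 15, []), ([24,26,23,26,24,22], 16, [20,24,27,29,19])], []⟩
def c20 : Clm := ⟨2, 2, true, [20,22,24,26,29,18,1], [16,22,1], 5, [([], 19, [])], []⟩
def c21 : Clm := ⟨2, 2, true, [27,29,21,11,21,7,28], [22,28,19,20,25,27,11,21,7,26], 9, [([], 15, [18]), ([], 7, [29,20,24]), ([10,12,8,10,6,8,4,6], 8, [21,26,28,21]), ([22], 16, [29,20,25])], []⟩
def c22 : Clm := ⟨2, 2, true, [22,28,19,20,25,27,11,21,7,26], [27,29,21,11,21,7,28], 5, [([], 21, [])], []⟩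
def c23 : Clm := ⟨2, 2, true, [20,24,26,19,28,21,11,21,7,26], [22,25,21,27,18,11,21,7,26], 9, [([], 20, [22,25,28,19]), ([], 22, [18,24,26,28,19,27]), ([], 15, [18,22,24,26,28,18,21]), ([23,18], 16, [18,20,24,21,27])], []⟩
def c24 : Clm := ⟨2, 2, true, [22,25,21,27,18,11,21,7,26], [20,24,26,19,28,21,11,21,7,26], 5, [([], 23, [])], []⟩
def c25 : Clm := ⟨2, 2, false, [20,24,26,19,28,21,11,21,7,26], [15,22,28,20,7,3,5,7,30], 3, [([], 24, []), ([36,34], 21, [20,22,24,26,19,28,21])], []⟩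
def c26 : Clm := ⟨2, 1, false, [20,22,24,26,29,18,1], [19,22,24,20,28,7,18,20,11], 3, [([], 19, []), ([51,36,50], 16, [18,20,22,24,20,27,28,19])], []⟩
def c27 : Clm := ⟨1, 3, true, [8], [], 1, [], []⟩
def c28 : Clm := ⟨3, 1, true, [], [15,7], 5, [([], 27, [])], []⟩
def c29 : Clm := ⟨3, 3, false, [], [19,22,25], 3, [([], 27, []), ([18,27,18], 27, [21,22,27])], []⟩
def c30 : Clm := ⟨3, 3, false, [], [18,21,22,24,27,29,19,20], 3, [([], 27, []), ([21,23,24,19], 27, [19,20,22,24,27,29,18,21])], []⟩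
def c31 : Clm := ⟨3, 3, false, [], [22,28,18,21,25], 3, [([], 27, []), ([25,27,23,21,23,26,23], 27, [22,29,19,20,27])], []⟩
def c32 : Clm := ⟨3, 3, true, [16,22,1], [19,22,24,29,21,25,1], 7, [([], 27, []), ([18,18], 28, [19,24,29,20,24])], []⟩
def c33 : Clm := ⟨1, 4, true, [12,8], [], 1, [], []⟩
def c34 : Clm := ⟨4, 1, true, [], [15,7,11], 5, [([], 33, [])], []⟩
def c35 : Clm := ⟨4, 4, false, [], [19,20,22,24,27,29,18,21], 3, [([], 33, []), ([25,23,18,18], 33, [18,21,22,24,27,29,19,20])], []⟩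
def c36 : Clm := ⟨4, 4, false, [], [16], 3, [([], 33, []), ([18,27,19,26,21], 33, [15])], []⟩
def c37 : Clm := ⟨4, 4, false, [], [16,19,20,22,25,21], 3, [([], 33, []), ([27,19,22,25,19,26], 33, [15,18,21,22,27,19])], []⟩
def c38 : Clm := ⟨4, 4, false, [], [21,22,24,27,28,20], 3, [([], 33, []), ([22,27,22,25,26,23], 33, [19,22,24,27,28,18])], []⟩
def c39 : Clm := ⟨1, 5, true, [12,8,2], [], 1, [], []⟩
def c40 : Clm := ⟨5, 1, true, [], [1,7,11], 5, [([], 39, [])], []⟩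
def c41 : Clm := ⟨5, 5, false, [], [19,20,22,24,26,29,18,21], 3, [([], 39, []), ([25,19,23,20], 39, [18,21,22,24,26,28,19,20])], []⟩
def c42 : Clm := ⟨5, 5, false, [], [16], 3, [([], 39, []), ([20,27,19,26,18], 39, [15])], []⟩
def c43 : Clm := ⟨5, 5, false, [], [20,22,24,27,28,21], 3, [([], 39, []), ([22,27,22,25,26,23], 39, [18,22,24,27,28,19])], []⟩
def c44 : Clm := ⟨5, 5, false, [], [15,18,22,28,19], 3, [([], 39, []), ([18,27,25,19,23,26], 39, [15,20,22,28,21])], []⟩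
def c45 : Clm := ⟨5, 4, true, [16,22,1], [15,1], 7, [([], 39, []), ([], 34, [15,16,22])], []⟩
def c46 : Clm := ⟨4, 5, true, [15,1], [16,22,1], 5, [([], 45, [])], []⟩
def c47 : Clm := ⟨1, 6, true, [12,8,6,4,8], [], 1, [], []⟩
def c48 : Clm := ⟨6, 1, true, [], [7,3,5,7,11], 5, [([], 47, [])], []⟩
def c49 : Clm := ⟨6, 6, false, [], [20,22,25,28,21], 3, [([], 47, []), ([22,21,25,27,23,26,24], 47, [18,22,27,29,19])], []⟩
def c50 : Clm := ⟨6, 6, false, [], [18,21,24,20,26,19,29], 3, [([], 47, []), ([18,27,22,27,23,26,18], 47, [19,20,24,21,26,18,28])], []⟩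
def c51 : Clm := ⟨6, 6, true, [16,22,1], [18,22,24,26,29,18,1], 7, [([], 47, []), ([22,26,20], 48, [18,24,27,29,19])], []⟩
def c52 : Clm := ⟨6, 6, true, [18,22,24,26,29,18,1], [16,22,1], 5, [([], 51, [])], []⟩
def c53 : Clm := ⟨3, 7, true, [8,18,4,8], [], 1, [], []⟩
def c54 : Clm := ⟨7, 3, true, [], [15,7,3,18,7], 5, [([], 53, [])], []⟩
def c55 : Clm := ⟨3, 8, true, [8,28,4,8], [], 1, [], []⟩
def c56 : Clm := ⟨8, 3, true, [], [15,28,18,7,3,19,7], 5, [([], 55, [])], []⟩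
def c57 : Clm := ⟨3, 9, true, [10,12,8], [], 1, [], []⟩
def c58 : Clm := ⟨9, 3, true, [], [16,21,24,20,7,11], 5, [([], 57, [])], []⟩
def c59 : Clm := ⟨3, 10, true, [10,12,8,2], [], 1, [], []⟩
def c60 : Clm := ⟨10, 3, true, [], [16,21,25,20,1,7,11], 5, [([], 59, [])], []⟩
def c61 : Clm := ⟨10, 9, true, [16,22,1], [15,1], 7, [([], 59, []), ([], 58, [15,16,22])], []⟩
def c62 : Clm := ⟨3, 11, true, [18,12,8], [], 1, [], []⟩
def c63 : Clm := ⟨3, 12, true, [12,28,8], [], 1, [], []⟩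
def c64 : Clm := ⟨3, 13, true, [8], [], 1, [], []⟩
def c65 : Clm := ⟨13, 3, true, [], [15,7], 5, [([], 64, [])], []⟩
def c66 : Clm := ⟨13, 13, false, [], [18,20,22,25,21,26,19], 3, [([], 64, []), ([61,62,59,62,58], 64, [18,20,22,24,21,27,19])], []⟩
def c67 : Clm := ⟨13, 13, true, [16,22,1], [18,22,24,21,27,19,28,1], 7, [([], 64, []), ([63,63,63,60], 65, [18,24,20,26,18,28])], []⟩
def c68 : Clm := ⟨13, 13, true, [18,22,24,21,27,19,28,1], [16,22,1], 5, [([], 67, [])], []⟩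
def c69 : Clm := ⟨3, 14, true, [4,8], [], 1, [], []⟩
def c70 : Clm := ⟨14, 3, true, [], [16,25,7], 5, [([], 69, [])], []⟩
def c71 : Clm := ⟨14, 14, false, [], [18,21,22,26,19,28], 3, [([], 69, []), ([63,63,59,62,58], 69, [19,20,22,24,21,29])], []⟩
def c72 : Clm := ⟨14, 14, true, [16,22,1], [18,24,20,26,19,28,1], 7, [([], 69, []), ([60,58,60], 70, [18,22,24,21,27,18,28])], []⟩
def c73 : Clm := ⟨14, 14, true, [18,24,20,26,19,28,1], [16,22,1], 5, [([], 72, [])], []⟩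
def c74 : Clm := ⟨3, 15, true, [8,6,4,8], [], 1, [], []⟩
def c75 : Clm := ⟨15, 3, true, [], [15,7,3,5,7], 5, [([], 74, [])], []⟩
def c76 : Clm := ⟨15, 15, true, [16,22,1], [18,20,22,26,19,1], 7, [([], 74, []), ([62,60], 75, [18,20,26,18])], []⟩
def c77 : Clm := ⟨15, 6, true, [24,27,29,21,11,21,7,28], [18,20,22,24,26,18,28,20,11,21,7,26], 9, [([], 74, [26,18]), ([], 27, [21,22,26,29,18]), ([18], 16, [21,22,24,21,26,18,29]), ([52,22,20], 48, [19,26,29,21])], []⟩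
def c78 : Clm := ⟨6, 15, true, [19,21,24,27,19,29,21,11,21,7,26], [18,21,22,24,26,29,19,20,11,21,7,26], 9, [([], 52, [21,22,29,20,24]), ([], 77, [20,24,20,29,20]), ([], 74, [20,22,25,28]), ([58,62,60], 75, [27,19,28,19])], []⟩
def c79 : Clm := ⟨15, 15, false, [18,21,22,24,26,29,19,20,11,21,7,26], [24,20,29,18,27,7,3,18,7,30], 3, [([], 78, []), ([101], 78, [16,18,21,22])], []⟩
def c80 : Clm := ⟨6, 15, false, [18,20,22,24,26,18,28,20,11,21,7,26], [19,26,29,20,25,7,3,19,7,20], 3, [([], 77, []), ([158], 76, [16,18,21,24,20])], []⟩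
def c81 : Clm := ⟨6, 3, true, [19,20,22,24,26,29,19,7,20,11,20], [15,7,3,5,7], 4, [([160], 75, [])], []⟩
def c82 : Clm := ⟨3, 6, false, [16,19,20,25,21,7,3,18,7,20], [18,21,24,26,28,20,7,5,20,11], 8, [([], 74, [21,24,21]), ([161,100,98], 81, [15,19,21,22,28]), ([60,58,60,58,60,58], 74, [21,24,20,27,18,28]), ([161], 48, [16,22,24,21]), ([24,26,23,26,24,23,26], 47, [18,20,24,21,29])], []⟩
def c83 : Clm := ⟨3, 1, true, [20,22,26,18,29,7,3,18,7], [7,3,5,7,11], 4, [([164], 48, [])], []⟩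
def c84 : Clm := ⟨1, 7, false, [7,3,5,7,11], [20,24,26,29,21,7,3,5,7,11], 3, [([], 83, []), ([60], 53, [18,24,26,28,19])], []⟩
def c85 : Clm := ⟨3, 3, true, [20,22,26,18,29,7,3,18,7,30], [18,21,22,24,27,29,19,20,7,3,18,7,30], 4, [([164], 51, [])], [165]⟩
def c86 : Clm := ⟨3, 8, false, [18,21,22,24,27,29,19,20,7,3,18,7,30], [16,20,22,25,21,7,18,20,11], 3, [([], 85, []), ([60], 55, [16,19,21,25])], []⟩
def c87 : Clm := ⟨15, 3, false, [], [18,20,22,24,21,27,7,3,18,7], 2, [], [161,165]⟩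
def c88 : Clm := ⟨3, 16, true, [12,8,6,4,8], [], 1, [], []⟩
def c89 : Clm := ⟨16, 3, true, [], [7,3,5,7,11], 5, [([], 88, [])], []⟩
def c90 : Clm := ⟨16, 16, false, [], [18,21,24,20,26,19,29], 3, [([], 88, []), ([62,62,61,63,58], 88, [19,20,24,21,26,18,28])], []⟩
def c91 : Clm := ⟨16, 14, true, [22,29,19,20,27,11,21,7,28], [20,22,24,28,19,20,11,21,7,26], 9, [([], 88, [20,22]), ([62], 54, [19,20,24,20,26,19]), ([169,23,26,18], 48, [18,22,29,20,25]), ([165,58,62], 70, [18,21,27,29,19])], []⟩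
def c92 : Clm := ⟨14, 16, true, [20,22,24,28,19,20,11,21,7,26], [22,29,19,20,27,11,21,7,28], 5, [([], 91, [])], []⟩
def c93 : Clm := ⟨13, 14, true, [19,20,24,20,26,19,11,21,7,28], [29,19,20,26,11,21,7,28], 9, [([], 64, [24,20,29,18,26]), ([60,58], 89, [18,21,24,21,26,19,28]), ([], 92, [20,24,26,29,21,24]), ([], 73, [18,22,29,21,24])], []⟩
def c94 : Clm := ⟨14, 13, true, [29,19,20,26,11,21,7,28], [19,20,24,20,26,19,11,21,7,28], 5, [([], 93, [])], []⟩
def c95 : Clm := ⟨13, 13, false, [19,20,24,20,26,19,11,21,7,28], [18,24,20,26,28,7,19,20,11,20], 3, [([], 94, []), ([143], 94, [19,24,29,18,27])], []⟩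
def c96 : Clm := ⟨16, 16, false, [18,28,21,1,11,21,7], [20,22,27,7,5,20,11], 8, [([], 91, [18,26,19]), ([], 70, [21,26]), ([58,60,58], 64, [18,21,24,26,18,29,20]), ([132], 93, [21,22,24,26,19,29]), ([], 92, [16,22,25])], []⟩
def c97 : Clm := ⟨14, 14, false, [20,22,24,28,19,20,11,21,7,26], [21,22,24,27,29,18,21,7,20,5,11,20], 3, [([], 91, []), ([193,180], 91, [22,27,29])], []⟩
def c98 : Clm := ⟨16, 14, false, [22,29,19,20,27,11,21,7,28], [18,21,24,26,18,29,7,3,5,7,30], 3, [([], 92, []), ([142,194], 72, [19,20,22,24,21,26,19])], []⟩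
def c99 : Clm := ⟨14, 3, true, [18,21,24,26,18,29,7,3,5,7,30], [7,3,5,7,11], 4, [([197], 89, [])], []⟩
def c100 : Clm := ⟨3, 14, true, [7,3,5,7,11], [18,21,24,26,18,29,7,3,5,7,30], 5, [([], 99, [])], []⟩
def c101 : Clm := ⟨3, 13, true, [22,24,26,29,21,7,11,13,26,11], [16,21,25,21,7,3,19,7,21], 7, [([], 89, [19,29,21,25]), ([196,194], 93, [])], []⟩
def c102 : Clm := ⟨13, 3, true, [16,21,25,21,7,3,19,7,21], [22,24,26,29,21,7,11,13,26,11], 5, [([], 101, [])], []⟩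
def c103 : Clm := ⟨14, 13, true, [20,22,24,21,27,28,7,20,5,11], [15,20,26,19,11,21,7,28], 9, [([], 100, [21,24,26,29,21]), ([60,58,60,58], 70, [19,21,22,26,19,29]), ([], 93, [26]), ([190], 68, [21,25,28])], []⟩
def c104 : Clm := ⟨3, 3, true, [19,20,24,21,26,18,29,7,3,5,7,20,7], [18,26,28,19,20,7,3,5,7,11,20], 9, [([60], 56, [15,18,21,22]), ([173,63,63,60], 70, [20,24,20,26,28]), ([194], 93, [19,20,28]), ([132,190], 64, [22,26,18,28])], []⟩
def c105 : Clm := ⟨3, 3, true, [18,26,28,19,20,7,3,5,7,11,20], [19,20,24,21,26,18,29,7,3,5,7,20,7], 5, [([], 104, [])], []⟩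
def c106 : Clm := ⟨14, 1, true, [19,20,26,29,11,21,7], [20,22,24,27,28,19,20,7,11,16], 9, [([], 93, [20,24,21]), ([], 64, [18,20,26]), ([58,63,58,60,58], 105, [18,22,29,18,27]), ([63,60], 54, [18,24,20,27,18,28])], [169]⟩
def c107 : Clm := ⟨1, 14, true, [20,22,24,27,28,19,20,7,11,16], [19,20,26,29,11,21,7], 5, [([], 106, [])], []⟩
def c108 : Clm := ⟨14, 4, false, [19,20,26,29,11,21,7], [19,21,22,24,21,26,11,21,7,5], 3, [([], 107, []), ([26,24,23,26,22,19], 33, [18,24,27,18,29,20])], []⟩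
def c109 : Clm := ⟨4, 3, true, [19,21,22,24,21,26,11,21,7,5], [16,25,7], 4, [([217], 70, [])], []⟩
def c110 : Clm := ⟨3, 4, true, [16,25,7], [19,21,22,24,21,26,11,21,7,5], 5, [([], 109, [])], []⟩
def c111 : Clm := ⟨4, 4, true, [19,21,25,26,19,7,19,20,11,20], [20,22,26,29,18,7,20,11,28], 4, [([217], 72, [])], [216]⟩
def c112 : Clm := ⟨4, 4, true, [20,22,26,29,18,7,20,11,28], [19,21,25,26,19,7,19,20,11,20], 5, [([], 111, [])], []⟩
def c113 : Clm := ⟨4, 13, true, [18,20,25,21,11,21,7], [19,20,24,20,26,19,11,21,7,28], 4, [([217], 94, [])], []⟩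
def c114 : Clm := ⟨13, 4, true, [19,20,24,20,26,19,11,21,7,28], [18,20,25,21,11,21,7], 5, [([], 113, [])], []⟩
def c115 : Clm := ⟨4, 3, true, [19,21,22,24,26,18,29,20,11,21,7,19], [7,3,5,7,11], 4, [([217], 99, [])], []⟩
def c116 : Clm := ⟨4, 13, true, [18,27,19,28,1], [15,20,26,19,11,21,7,28], 4, [([217], 103, [])], []⟩
def c117 : Clm := ⟨13, 5, false, [15,20,26,19,11,21,7,28], [18,21,24,28,21,7,3,19,7], 3, [([], 116, []), ([], 46, [19,29,18,26])], []⟩
def c118 : Clm := ⟨5, 4, true, [19,21,22,25,7,3,19,7,21], [18,20,25,21,11,21,7], 4, [([235], 114, [])], []⟩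
def c119 : Clm := ⟨4, 5, true, [18,20,25,21,11,21,7], [19,21,22,25,7,3,19,7,21], 5, [([], 118, [])], []⟩
def c120 : Clm := ⟨16, 4, false, [], [19,21,22,24,26,18,29,20,11,21,7,19], 2, [], [196,216]⟩
def c121 : Clm := ⟨5, 3, true, [18,21,24,28,21,7,3,19,7], [15,7], 4, [([235], 65, [])], []⟩
def c122 : Clm := ⟨5, 5, true, [20,24,27,18,28,7,3,5,7,21], [19,20,22,24,20,26,28,19,7,20,11], 4, [([235], 67, [])], [234]⟩
def c123 : Clm := ⟨5, 3, true, [20,22,25,27,19,11,21,7,28], [22,24,26,29,21,7,11,13,26,11], 4, [([235], 102, [])], []⟩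
def c124 : Clm := ⟨3, 17, true, [12,8], [], 1, [], []⟩
def c125 : Clm := ⟨17, 3, true, [], [15,7,11], 5, [([], 124, [])], []⟩
def c126 : Clm := ⟨3, 18, true, [12,8,2], [], 1, [], []⟩
def c127 : Clm := ⟨18, 3, true, [], [1,7,11], 5, [([], 126, [])], []⟩
def c128 : Clm := ⟨18, 18, false, [], [19,20,22,24,27,29,18,21], 3, [([], 126, []), ([61], 126, [18,21,22,24,27,29,19,20])], []⟩
def c129 : Clm := ⟨18, 17, true, [16,22,1], [15,1], 7, [([], 126, []), ([], 125, [15,16,22])], []⟩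
def c130 : Clm := ⟨17, 18, true, [15,1], [16,22,1], 5, [([], 129, [])], []⟩
def c131 : Clm := ⟨3, 19, true, [18,12,4,8], [], 1, [], []⟩
def c132 : Clm := ⟨19, 3, true, [], [16,18,24,7,11], 5, [([], 131, [])], []⟩
def c133 : Clm := ⟨3, 20, true, [12,28,4,8], [], 1, [], []⟩
def c134 : Clm := ⟨20, 3, true, [], [24,26,29,11,27,7], 5, [([], 133, [])], []⟩
def c135 : Clm := ⟨20, 20, false, [], [16,19,22,24], 3, [([], 133, []), ([63,63,59,62,59,60,58,60,58], 133, [15,21,22,26])], []⟩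
def c136 : Clm := ⟨20, 19, true, [16,22,1], [19,20,22,24,20,28,1], 7, [([], 133, []), ([], 132, [19,20,24,21,28])], []⟩
def c137 : Clm := ⟨19, 20, true, [19,20,22,24,20,28,1], [16,22,1], 5, [([], 136, [])], []⟩
def c138 : Clm := ⟨3, 21, true, [8,10,12,6,8], [], 1, [], []⟩
def c139 : Clm := ⟨21, 3, true, [], [19,20,22,24,26,29,18,21,7,3,11,18,7], 5, [([], 138, [])], []⟩
def c140 : Clm := ⟨21, 21, true, [16,22,1], [20,22,25,29,20,1], 7, [([], 138, []), ([62,62,62,60], 139, [20,25,29,21])], []⟩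
def c141 : Clm := ⟨3, 22, true, [4,8,10,12,6,8], [], 1, [], []⟩
def c142 : Clm := ⟨22, 3, true, [], [19,22,26,18,28,20,24,7,3,11,18,7], 5, [([], 141, [])], []⟩
def c143 : Clm := ⟨22, 22, true, [16,22,1], [20,22,25,29,20,1], 7, [([], 141, []), ([62,62,62,60], 142, [20,25,29,21])], []⟩
def c144 : Clm := ⟨4, 23, true, [21,8,27,12], [], 1, [], []⟩
def c145 : Clm := ⟨23, 4, true, [], [21,27,19,7,11,18], 5, [([], 144, [])], []⟩
def c146 : Clm := ⟨4, 24, true, [21,8,26,12], [], 1, [], []⟩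
def c147 : Clm := ⟨24, 23, true, [16,22,1], [22,26,1], 7, [([], 146, []), ([], 145, [26])], []⟩
def c148 : Clm := ⟨23, 24, true, [22,26,1], [16,22,1], 5, [([], 147, [])], []⟩
def c149 : Clm := ⟨4, 25, true, [10,12,8], [], 1, [], []⟩
def c150 : Clm := ⟨25, 4, true, [], [16,21,24,20,7,11], 5, [([], 149, [])], []⟩
def c151 : Clm := ⟨25, 25, false, [], [15,22,27], 3, [([], 149, []), ([71], 149, [16,22,25])], []⟩
def c152 : Clm := ⟨25, 25, false, [], [19,20,22,25,21], 3, [([], 149, []), ([75,77,74], 149, [18,21,22,27,19])], []⟩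
def c153 : Clm := ⟨4, 26, true, [10,12,8,2], [], 1, [], []⟩
def c154 : Clm := ⟨26, 4, true, [], [16,21,25,20,1,7,11], 5, [([], 153, [])], []⟩
def c155 : Clm := ⟨26, 25, true, [16,22,1], [15,1], 7, [([], 153, []), ([], 150, [15,16,22])], []⟩
def c156 : Clm := ⟨25, 26, true, [15,1], [16,22,1], 5, [([], 155, [])], []⟩
def c157 : Clm := ⟨4, 27, true, [18,10,12,8], [], 1, [], []⟩
def c158 : Clm := ⟨27, 4, true, [], [16,18,21,24,20,7,11], 5, [([], 157, [])], []⟩
def c159 : Clm := ⟨27, 27, false, [], [18,29,18,27], 3, [([], 157, []), ([77,70], 157, [20,28,20,25])], []⟩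
def c160 : Clm := ⟨27, 27, false, [], [15,22,26], 3, [([], 157, []), ([75,71,74], 157, [16,22,24])], []⟩
def c161 : Clm := ⟨4, 28, true, [10,12,28,8], [], 1, [], []⟩
def c162 : Clm := ⟨28, 27, true, [16,22,1], [19,20,22,24,20,28,1], 7, [([], 161, []), ([], 158, [19,20,24,21,28])], []⟩
def c163 : Clm := ⟨27, 28, true, [19,20,22,24,20,28,1], [16,22,1], 5, [([], 162, [])], []⟩
def c164 : Clm := ⟨4, 29, true, [31,19,8], [], 1, [], []⟩
def c165 : Clm := ⟨4, 30, true, [26,21,12], [], 1, [], []⟩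
def c166 : Clm := ⟨30, 4, true, [], [15,21,26,11], 5, [([], 165, [])], []⟩
def c167 : Clm := ⟨30, 30, true, [16,22,1], [22,26,1], 7, [([], 165, []), ([72], 166, [26])], []⟩
def c168 : Clm := ⟨4, 31, true, [20,18,12,8], [], 1, [], []⟩
def c169 : Clm := ⟨31, 4, true, [], [15,18,20,7,11], 5, [([], 168, [])], []⟩
def c170 : Clm := ⟨4, 32, true, [2,20,12,8], [], 1, [], []⟩
def c171 : Clm := ⟨32, 31, true, [16,22,1], [15,1], 7, [([], 170, []), ([], 169, [15,16,22])], []⟩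
def c172 : Clm := ⟨31, 32, true, [15,1], [16,22,1], 5, [([], 171, [])], []⟩
def c173 : Clm := ⟨4, 33, true, [8], [], 1, [], []⟩
def c174 : Clm := ⟨33, 4, true, [], [15,7], 5, [([], 173, [])], []⟩
def c175 : Clm := ⟨33, 33, false, [], [18,21,22,24,26,29,19,20], 3, [([], 173, []), ([77,75,71,76,74], 173, [19,20,22,24,26,28,18,21])], []⟩
def c176 : Clm := ⟨33, 33, true, [16,22,1], [19,22,24,29,21,25,1], 7, [([], 173, []), ([72], 174, [19,24,29,20,24])], []⟩
def c177 : Clm := ⟨33, 4, true, [19,21,22,27,29,11,21,7,28], [21,27,18,7,9], 9, [([], 173, [21,22,28]), ([70,76], 110, [16,20,25,21]), ([63,58,60], 75, [16,25]), ([174,60,58,60], 70, [18,21,24,26,29,19,20])], [216]⟩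
def c178 : Clm := ⟨4, 33, true, [21,27,18,7,9], [19,21,22,27,29,11,21,7,28], 5, [([], 177, [])], []⟩
def c179 : Clm := ⟨33, 33, false, [19,21,22,27,29,11,21,7,28], [21,22,24,21,27,19,28,1,7,21], 3, [([], 178, []), ([77,75,76], 178, [19,20,22,24,21,28])], []⟩
def c180 : Clm := ⟨33, 4, false, [19,22,24,29,21,25,1], [15,20,22,28,21,7,21,28], 3, [([], 176, []), ([358,350,358,350,358], 174, [18,21,22,24,26,29,18,21])], []⟩
def c181 : Clm := ⟨22, 4, true, [20,24,20,26,29,11,21,7,28], [18,20,22,25,21,27,19,7,11,13,26,11], 9, [([], 141, [18,27,29]), ([62,58], 70, [19,21,22,24,26,28,18]), ([216,76,72], 174, [25,20,28]), ([360,70,76], 177, [19,20,22,26,28])], [360]⟩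
def c182 : Clm := ⟨4, 22, true, [18,20,22,25,21,27,19,7,11,13,26,11], [20,24,20,26,29,11,21,7,28], 5, [([], 181, [])], []⟩
def c183 : Clm := ⟨4, 22, true, [19,22,26,19,28,7,11,20,7,20,29], [19,20,25,21,29,11,21,7,26], 9, [([72], 174, [22,27,29,19]), ([360,70,76], 177, [18,25,26,19]), ([360,76], 110, [18,21,22,24,26,29,19,20]), ([63,63,58,62], 142, [19,22,24,21,27,19,28])], []⟩
def c184 : Clm := ⟨22, 4, true, [19,20,25,21,29,11,21,7,26], [19,22,26,19,28,7,11,20,7,20,29], 5, [([], 183, [])], []⟩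
def c185 : Clm := ⟨22, 4, true, [18,22,25,27,19,7,3,19,7,21], [29,19,26,7,11,21,7,26], 9, [([], 183, [22,24,26,29,19,20]), ([72], 174, [22,27,19,28]), ([360,70,76], 112, [18,21,26,28]), ([76,70,74], 174, [20,24,20,29])], [360]⟩
def c186 : Clm := ⟨4, 22, true, [29,19,26,7,11,21,7,26], [18,22,25,27,19,7,3,19,7,21], 5, [([], 185, [])], []⟩
def c187 : Clm := ⟨22, 22, false, [18,22,25,27,19,7,3,19,7,21], [21,22,25,26,19,7,3,18,7], 3, [([], 186, []), ([], 183, [22,28,19,20,26])], []⟩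
def c188 : Clm := ⟨4, 22, false, [18,20,22,24,21,7,20], [19,26,29,21,24,7,20,11,26,7], 8, [([], 173, [18,20,22,24]), ([360], 182, [18,21,25,29]), ([374], 142, [16,19,21]), ([62,60,58], 74, [18,24,27,28,21]), ([174,62,62,62,60,58], 141, [19,20,24,20,26,29])], []⟩
def c189 : Clm := ⟨4, 3, true, [18,20,26,28,1,7,20,7,11,18], [19,22,26,18,28,20,24,7,3,11,18,7], 4, [([376], 142, [])], []⟩
def c190 : Clm := ⟨3, 4, true, [19,22,26,18,28,20,24,7,3,11,18,7], [18,20,26,28,1,7,20,7,11,18], 5, [([], 189, [])], []⟩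
def c191 : Clm := ⟨4, 4, true, [18,21,27,18,29,7,5,11,30,7], [19,22,25,21,27,19,7,3,11,29,7,20], 4, [([376], 143, [])], [377]⟩
def c192 : Clm := ⟨4, 4, true, [19,22,25,21,27,19,7,3,11,29,7,20], [18,21,27,18,29,7,5,11,30,7], 5, [([], 191, [])], []⟩
def c193 : Clm := ⟨4, 4, true, [20,27,19,28,7,21,11,27], [24,27,7,11,16,21,7,26], 9, [([], 192, [22,24,28,18]), ([74,76,74], 190, [19,21,24,26,18,28]), ([63,63], 89, [20,22,25,21,26,19]), ([240,76,70,74], 177, [19,24,21,27,28,18])], [360]⟩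
def c194 : Clm := ⟨4, 4, true, [24,27,7,11,16,21,7,26], [20,27,19,28,7,21,11,27], 5, [([], 193, [])], []⟩
def c195 : Clm := ⟨4, 4, true, [19,21,26,28,19,7,3,29,7,21,11], [22,28,18,27,1,7,20,7,11,28], 9, [([76,72], 177, [19,21,24,21,27,28,19]), ([360,74], 193, [19,21,22,24,20]), ([74,76,74], 190, [22,26,19,28,21]), ([63,63,58,62,60], 142, [21,24,29,19,20])], [377]⟩
def c196 : Clm := ⟨29, 4, true, [15,20,26,11,21,7,28], [21,22,24,21,27,28,1,11,21,11], 9, [([], 164, [19,28,18]), ([74,72], 177, [19,21,24,27,18,28]), ([360,74,72], 193, [15,20,22,27,18]), ([74,76,74], 192, [20,22,24,28,19,27])], []⟩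
def c197 : Clm := ⟨4, 29, true, [21,22,24,21,27,28,1,11,21,11], [15,20,26,11,21,7,28], 5, [([], 196, [])], []⟩
def c198 : Clm := ⟨27, 4, true, [18,22,24,29,20,24,11,21,7,28], [19,22,29,21,1,11,21,7,19], 9, [([], 157, [18,22,26,28,18,21,25]), ([72], 192, [18,21,24,26,19,29]), ([74,76,74], 194, [18,22,29,20,24]), ([76,72], 177, [19,24,26,29])], [360]⟩
def c199 : Clm := ⟨4, 27, true, [19,22,29,21,1,11,21,7,19], [18,22,24,29,20,24,11,21,7,28], 5, [([], 198, [])], []⟩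
def c200 : Clm := ⟨27, 5, false, [18,22,24,29,20,24,11,21,7,28], [20,22,24,27,19,28,21,7,11,21,29,7], 3, [([], 199, []), ([70,76], 113, [26,19,28])], [234]⟩
def c201 : Clm := ⟨5, 5, false, [20,22,24,27,19,28,21,7,11,21,29,7], [16,18,20,25,7,11,20,30], 2, [], [401,318,400]⟩
def c202 : Clm := ⟨5, 5, false, [20,22,24,27,19,28,21,7,11,21,29,7], [22,24,29,18,21,7,3,21,11,9], 2, [], [401,320,400]⟩
def c203 : Clm := ⟨5, 4, true, [20,22,24,27,19,28,21,7,11,21,29,7], [16,18,21,24,20,7,11], 4, [([401], 158, [])], []⟩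
def c204 : Clm := ⟨4, 5, true, [16,18,21,24,20,7,11], [20,22,24,27,19,28,21,7,11,21,29,7], 5, [([], 203, [])], []⟩
def c205 : Clm := ⟨5, 28, true, [22,25,21,27,18,1,7,20,7,11], [16,22,1], 4, [([401], 163, [])], []⟩
def c206 : Clm := ⟨28, 4, false, [16,22,1], [20,22,24,20,26,28,19,11,27,7], 3, [([], 205, []), ([84,82], 203, [20,22,24,28,20,25])], []⟩
def c207 : Clm := ⟨4, 10, false, [25,28,18,21,7,5], [19,22,24,29,20,24,7,3,20], 8, [([], 178, [22,24,20]), ([360], 195, [18,21,24,20,27,19,28]), ([74,76,74], 191, [15,18,20,28]), ([74,76,74], 189, [19,22,26,28,19,20]), ([58,62], 59, [21,22,25,28,18])], []⟩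
def c208 : Clm := ⟨4, 3, true, [18,20,24,20,27,28,18,7,5,28], [16,21,25,20,1,7,11], 4, [([414], 60, [])], []⟩
def c209 : Clm := ⟨3, 29, false, [16,21,25,20,1,7,11], [24,28,20,1,7,11,9], 3, [([], 208, []), ([70], 164, [26,29,18])], []⟩
def c210 : Clm := ⟨4, 9, true, [18,20,22,25,7,21,29], [15,1], 4, [([414], 61, [])], []⟩
def c211 : Clm := ⟨9, 3, false, [15,1], [15,19,20,27,18,11,20,7,9], 3, [([], 210, []), ([74], 164, [15,19,21,27,18])], [419]⟩
def c212 : Clm := ⟨3, 4, true, [19,20,22,25,26,7,11,9,28,19], [21,22,24,21,27,28,1,11,21,11], 4, [([418], 196, [])], []⟩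
def c213 : Clm := ⟨4, 19, false, [21,22,24,21,27,28,1,11,21,11], [19,24,29,19,27,11,9,7], 3, [([], 212, []), ([60,58,60,58,60], 131, [15,29,19,20])], []⟩
def c214 : Clm := ⟨4, 20, true, [22,26,19,28,21,1,7,21,7], [16,22,1], 4, [([426], 137, [])], []⟩
def c215 : Clm := ⟨20, 4, true, [18,22,24,21,27,19,28,11,21,7,26], [19,22,26,29,18,11,21,7,11,28], 9, [([], 137, [19,29,19]), ([427,72], 158, [21,24,21,27,28]), ([400], 119, [20,24,26,19,29,21]), ([74,70], 177, [19,20,24,26,18,28,20])], [360]⟩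
def c216 : Clm := ⟨4, 20, true, [19,22,26,29,18,11,21,7,11,28], [18,22,24,21,27,19,28,11,21,7,26], 5, [([], 215, [])], []⟩
def c217 : Clm := ⟨20, 20, false, [18,22,24,21,27,19,28,11,21,7,26], [18,21,22,24,28,7,3,18,7], 3, [([], 216, []), ([75,72], 216, [19,21,24,26,18,28,20])], []⟩
def c218 : Clm := ⟨20, 20, true, [18,22,24,26,28,18,11,21,7,28], [18,24,21,27,18,7,19,20,11], 9, [([], 133, [21,22,24,21,27,19]), ([63,58,62], 60, [18,22,27,29,20]), ([415,74,70], 177, [20,22,24,20,29,18,27]), ([360,72], 215, [19,20,22,24,29])], []⟩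
def c219 : Clm := ⟨5, 20, true, [18,24,27,19,29,1,7,22], [21,28,19,7,20,5,11], 9, [([], 204, [18,21,24,26,18,29]), ([72], 194, [20,24,21]), ([76], 177, [19,24,20,26,19,29]), ([360,72], 215, [20,22,27,29,18])], []⟩
def c220 : Clm := ⟨20, 5, true, [21,28,19,7,20,5,11], [18,24,27,19,29,1,7,22], 5, [([], 219, [])], []⟩
def c221 : Clm := ⟨4, 21, true, [18,20,22,24,21,1,7,11,21,24], [19,21,25,21,26,18,11,21,7,26], 9, [([72,70], 184, [18,24,20,27,19,28]), ([377,76,74,70], 196, [24,27,19,29]), ([419,58,63,58,60], 105, [18,21,22,24,21,27,29]), ([58,63,58,62,58], 139, [18,20,22,24,21,26])], []⟩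
def c222 : Clm := ⟨21, 4, true, [19,21,25,21,26,18,11,21,7,26], [18,20,22,24,21,1,7,11,21,24], 5, [([], 221, [])], []⟩
def c223 : Clm := ⟨4, 26, true, [19,21,22,26,18,28,7,11,9,26,7,22], [15,18,22,27,18,11,21,7,26], 9, [([], 193, [26,29,18,27]), ([70,74], 184, [19,21,22,24,20,26,28,18]), ([377,76,70], 184, [18,21,24,26,29,21]), ([377,74,72], 154, [19,20,25,20,27])], []⟩
def c224 : Clm := ⟨20, 4, true, [21,22,27,18,28,1,7,11,21,29,7,20], [19,27,29,18,7,11,9,29,7,30], 9, [([], 216, [18,20,22,24,26]), ([76,74,72,70], 184, [24,20,28,18]), ([377,70,74,70], 194, [21,22,29,18,27]), ([74,70], 194, [22,24,26,18,28])], []⟩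
def c225 : Clm := ⟨4, 20, true, [19,27,29,18,7,11,9,29,7,30], [21,22,27,18,28,1,7,11,21,29,7,20], 5, [([], 224, [])], []⟩
def c226 : Clm := ⟨20, 20, false, [21,22,27,18,28,1,7,11,21,29,7,20], [18,20,24,21,26,29,18,1,7], 3, [([], 225, []), ([77,75,76], 225, [19,21,24,20,26,28,18])], []⟩
def c227 : Clm := ⟨21, 3, true, [19,20,22,24,20,27,11,21,7,28], [18,24,26,28,20,7,11,30,21], 9, [([], 138, [22,29,19,20,26]), ([62,58,60,58], 132, [19,20,24,27,18]), ([427,76,72], 184, [24,26,19,28,21]), ([377,76,74,72], 190, [21,24,20,26,28])], []⟩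
def c228 : Clm := ⟨3, 21, true, [18,24,26,28,20,7,11,30,21], [19,20,22,24,20,27,11,21,7,28], 5, [([], 227, [])], []⟩
def c229 : Clm := ⟨21, 20, false, [19,20,22,24,20,27,11,21,7,28], [25,21,29,7,3,5,7,20], 3, [([], 228, []), ([63,58,62,60], 133, [20,26,19,29])], []⟩
def c230 : Clm := ⟨20, 3, true, [25,21,29,7,3,5,7,20], [19,20,22,24,26,29,18,21,7,3,11,18,7], 4, [([459], 139, [])], []⟩
def c231 : Clm := ⟨3, 20, true, [19,20,22,24,26,29,18,21,7,3,11,18,7], [25,21,29,7,3,5,7,20], 5, [([], 230, [])], []⟩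
def c232 : Clm := ⟨20, 20, true, [19,21,27,29,18,7,3,5,7,20], [18,20,22,26,19,29,7,19,20,11], 4, [([459], 140, [])], [458]⟩
def c233 : Clm := ⟨20, 4, true, [18,21,25,20,27,18,7,3,19,7,21], [18,20,22,24,21,1,7,11,21,24], 4, [([459], 222, [])], []⟩
def c234 : Clm := ⟨4, 20, true, [18,20,22,24,21,1,7,11,21,24], [18,21,25,20,27,18,7,3,19,7,21], 5, [([], 233, [])], []⟩
def c235 : Clm := ⟨20, 25, true, [24,29,19,20,11,20], [20,22,25,29,11,21,7,26], 9, [([], 225, [19,21,22,27,18]), ([74,72], 193, [19,20,22,24,26,29,19]), ([76,74,76], 184, [18,22,24,27,19,28]), ([377,74,72], 150, [24,26,19,29])], []⟩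
def c236 : Clm := ⟨25, 20, true, [20,22,25,29,11,21,7,26], [24,29,19,20,11,20], 5, [([], 235, [])], []⟩
def c237 : Clm := ⟨25, 25, false, [20,22,25,29,11,21,7,26], [18,20,26,28,18,11,21,7,5], 3, [([], 235, []), ([453], 235, [21,24,20,27,29])], []⟩
def c238 : Clm := ⟨25, 25, false, [20,22,25,29,11,21,7,26], [18,24,27,19,29,21,7,20,11,28], 3, [([], 235, []), ([271,453,271,452,434,270], 235, [19,20,28])], []⟩
def c239 : Clm := ⟨4, 4, true, [20,22,24,21,26,28,7,9,11,13], [19,28,18,27,7,9,11,21], 9, [([], 224, [16,18,25,21]), ([], 236, [21,22,24,20,26,28,18]), ([477], 149, [26,28,21]), ([74,72,70], 184, [18,26,18,29])], [377]⟩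
def c240 : Clm := ⟨4, 4, true, [19,28,18,27,7,9,11,21], [20,22,24,21,26,28,7,9,11,13], 5, [([], 239, [])], []⟩
def c241 : Clm := ⟨20, 20, true, [19,27,19,7,9,22], [19,20,22,24,21,27,19,29,7,5,29], 9, [([], 225, [15,18,21,22]), ([74,72], 193, [29,18,27]), ([70,74], 184, [24,26,19,28]), ([377,70], 222, [19,22,27])], [458]⟩
def c242 : Clm := ⟨31, 4, true, [18,21,24,21,27,28,11,21,7,28], [21,24,29,19,20,7,11,18,21], 9, [([], 168, [19,20,26,18,29]), ([76,70], 193, [19,25,21,27]), ([76,74,76], 181, [22,24,21,27,29,19]), ([377,76,72,70], 184, [18,24,20,27,28])], [377]⟩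
def c243 : Clm := ⟨4, 31, true, [21,24,29,19,20,7,11,18,21], [18,21,24,21,27,28,11,21,7,28], 5, [([], 242, [])], []⟩
def c244 : Clm := ⟨31, 25, false, [18,21,24,21,27,28,11,21,7,28], [18,20,24,21,26,28,19,11,21,7,19], 3, [([], 243, []), ([74,72], 149, [18,22,24,26,29,21])], []⟩
def c245 : Clm := ⟨25, 4, true, [18,20,24,21,26,28,19,11,21,7,19], [15,18,20,7,11], 4, [([489], 169, [])], []⟩
def c246 : Clm := ⟨4, 26, false, [15,18,20,7,11], [19,24,26,28,18,21,7,11,21,1], 3, [([], 245, []), ([477], 156, [21,22,24,27,28,19,20])], []⟩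
def c247 : Clm := ⟨25, 32, true, [18,20,24,21,27,29,19,11,21,7,5], [16,22,1], 4, [([489], 172, [])], []⟩
def c248 : Clm := ⟨32, 4, false, [16,22,1], [19,21,24,20,26,29,19,1,7,11,9,27], 3, [([], 247, []), ([477], 150, [19,21,22,24,26,29,19,20])], []⟩
def c249 : Clm := ⟨4, 4, true, [18,21,24,20,27,29,19,7,11,13,21], [21,24,26,29,19,7,11,20,28], 9, [([], 193, [19,20,25,27,18]), ([74,76,72,70], 194, [18,24,27,29]), ([76,74], 240, [24,29,18,21,26]), ([76,70], 184, [24,26,28,19,27])], [377]⟩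
def c250 : Clm := ⟨4, 4, true, [21,24,26,29,19,7,11,20,28], [18,21,24,20,27,29,19,7,11,13,21], 5, [([], 249, [])], []⟩
def c251 : Clm := ⟨20, 4, true, [18,21,24,21,26,28,19,7,3,18,7,20,7], [24,21,29,19,26,7,20,7], 9, [([], 234, [27,18,28,18]), ([], 184, [18,24,27,19,28,21]), ([377,74,76,72], 215, [18,20,22,25,26]), ([434], 225, [18,22,24,21,27,19,29])], []⟩
def c252 : Clm := ⟨4, 20, true, [24,21,29,19,26,7,20,7], [18,21,24,21,26,28,19,7,3,18,7,20,7], 5, [([], 251, [])], []⟩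
def c253 : Clm := ⟨20, 4, true, [21,22,24,26,29,19,20,11,21,7,30], [22,26,28,18,27,7,22,7,20,11], 9, [([], 231, [21,24,27,29,18]), ([63,58,60,58,60], 105, [19,22,26,29]), ([58,63,58,62,58], 142, [20,22,24,21,26,19]), ([377,74,76,72,70], 184, [18,21,22,24,20,27,18,28])], [377]⟩
def c254 : Clm := ⟨4, 20, true, [22,26,28,18,27,7,22,7,20,11], [21,22,24,26,29,19,20,11,21,7,30], 5, [([], 253, [])], []⟩
def c255 : Clm := ⟨17, 4, true, [24,21,27,28,18,11,21,7,28], [22,26,28,19,20,7,3,5,7,30,7], 9, [([], 124, [21,25,21,27,18]), ([62,60], 132, [20,24,28,18,21,26]), ([427,76,74,76,70], 192, [18,25,20,27,18]), ([74,76,72,70], 184, [18,22,25,21,26,18])], [377]⟩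
def c256 : Clm := ⟨4, 17, true, [22,26,28,19,20,7,3,5,7,30,7], [24,21,27,28,18,11,21,7,28], 5, [([], 255, [])], []⟩
def c257 : Clm := ⟨17, 4, false, [24,21,27,28,18,11,21,7,28], [18,22,24,21,26,18,29,1,7,11,21], 3, [([], 256, []), ([76,74,72], 191, [15,28,19,20])], []⟩
def c258 : Clm := ⟨4, 3, true, [18,22,24,21,26,18,29,1,7,11,21], [15,7,11], 4, [([515], 125, [])], []⟩
def c259 : Clm := ⟨3, 4, true, [15,7,11], [18,22,24,21,26,18,29,1,7,11,21], 5, [([], 258, [])], []⟩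
def c260 : Clm := ⟨4, 18, true, [18,22,24,21,26,18,29,7,11,19,21], [16,22,1], 4, [([515], 130, [])], []⟩
def c261 : Clm := ⟨18, 4, true, [16,22,1], [18,22,24,21,26,18,29,7,11,19,21], 5, [([], 260, [])], []⟩
def c262 : Clm := ⟨20, 4, true, [18,20,22,24,26,29,19,20,11,21,7,26], [19,20,22,25,21,29,1,7,20,7,9], 9, [([], 137, [20,24,27,28,19]), ([427,76,74,70], 253, [19,20,22,24,21,27,18,28]), ([270,452], 254, [21,22,25,29,18]), ([76,72,70], 184, [19,24,28,19])], [377]⟩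
def c263 : Clm := ⟨4, 20, true, [19,20,22,25,21,29,1,7,20,7,9], [18,20,22,24,26,29,19,20,11,21,7,26], 5, [([], 262, [])], []⟩
def c264 : Clm := ⟨20, 18, false, [18,20,22,24,26,29,19,20,11,21,7,26], [19,20,22,24,21,28,7,3,18,7,20], 3, [([], 263, []), ([72,70], 260, [19,20,24,27,19,28])], []⟩
def c265 : Clm := ⟨18, 18, false, [19,20,22,24,21,28,7,3,18,7,20], [19,20,24,26,29,18,11,21], 2, [], [529,270,528]⟩
def c266 : Clm := ⟨18, 18, false, [19,20,22,24,21,28,7,3,18,7,20], [19,22,24,20,26,29,18,7,11,21,29], 2, [], [529,434,528]⟩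
def c267 : Clm := ⟨18, 3, true, [19,20,22,24,21,28,7,3,18,7,20], [24,26,29,11,27,7], 4, [([529], 134, [])], []⟩
def c268 : Clm := ⟨18, 4, true, [21,22,27,28,18,7,3,18,7,20], [22,26,19,28,21,1,7,21,7], 4, [([529], 136, [])], [427]⟩
def c269 : Clm := ⟨18, 25, true, [20,22,24,21,26,19,28,7,9,11,21,30,7], [20,22,25,29,11,21,7,26], 4, [([529], 235, [])], []⟩
def c270 : Clm := ⟨18, 18, true, [28,18,27,7,5,11,9,7,3], [18,20,25,20,28,1,11,20,7,9,11], 4, [([529], 241, [])], [528]⟩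
def c271 : Clm := ⟨18, 4, true, [15,19,22,29,7,19,20,11], [22,26,28,18,27,7,22,7,20,11], 4, [([529], 253, [])], []⟩
def c272 : Clm := ⟨4, 18, true, [22,26,28,18,27,7,22,7,20,11], [15,19,22,29,7,19,20,11], 5, [([], 271, [])], []⟩
def c273 : Clm := ⟨18, 4, true, [19,20,22,27,19,28,1,11,20,7,9], [19,27,29,18,7,11,9,29,7,30], 4, [([529], 224, [])], []⟩
def c274 : Clm := ⟨4, 18, true, [19,27,29,18,7,11,9,29,7,30], [19,20,22,27,19,28,1,11,20,7,9], 5, [([], 273, [])], []⟩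
def c275 : Clm := ⟨18, 18, true, [20,22,24,26,18,28,1,11,21], [21,22,24,27,18,29,1,7,20], 4, [([529], 218, [])], [528]⟩
def c276 : Clm := ⟨18, 5, true, [18,21,25,20,29,7,5,20], [18,24,27,19,29,1,7,22], 4, [([529], 220, [])], []⟩
def c277 : Clm := ⟨18, 3, true, [24,26,19,28,7,20,5,11], [19,20,22,24,26,29,18,21,7,3,11,18,7], 4, [([529], 230, [])], []⟩
def c278 : Clm := ⟨3, 18, true, [19,20,22,24,26,29,18,21,7,3,11,18,7], [24,26,19,28,7,20,5,11], 5, [([], 277, [])], []⟩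
def c279 : Clm := ⟨18, 18, true, [22,24,21,27,28,21,7,19,20,11], [21,24,20,26,28,18,7,3,5,7,20], 4, [([529], 232, [])], [528]⟩
def c280 : Clm := ⟨18, 4, true, [20,22,24,20,1,11,21], [24,21,29,19,26,7,20,7], 4, [([529], 251, [])], []⟩
def c281 : Clm := ⟨18, 4, true, [20,22,24,26,18,29,7,3,5,7,20], [18,20,22,24,21,1,7,11,21,24], 4, [([529], 233, [])], []⟩
def c282 : Clm := ⟨4, 18, true, [18,20,22,24,21,1,7,11,21,24], [20,22,24,26,18,29,7,3,5,7,20], 5, [([], 281, [])], []⟩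
def c283 : Clm := ⟨18, 4, true, [26,19,29,19,11,20,7,9,11], [19,22,26,29,18,11,21,7,11,28], 4, [([529], 215, [])], []⟩
def c284 : Clm := ⟨21, 18, false, [], [24,26,19,28,7,20,5,11], 2, [], [458,528]⟩
def c285 : Clm := ⟨18, 18, true, [18,22,25,27,18,7,3,5,7,20], [19,22,26,28,20,24,11,21,7,28], 9, [([], 282, [18,26,28,19,26]), ([72,70], 184, [24,20,28]), ([377,76,74,70], 250, [20,22,25,21,26]), ([], 261, [18,21,22,26,18,29])], []⟩
def c286 : Clm := ⟨18, 18, true, [19,22,26,28,20,24,11,21,7,28], [18,22,25,27,18,7,3,5,7,20], 5, [([], 285, [])], []⟩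
def c287 : Clm := ⟨18, 18, true, [18,21,22,24,20,27,18,28,7,3,29,7,21], [19,7,11,9,26,11,27], 9, [([], 272, [19,24,28,18,27]), ([70], 184, [18,24,27,29]), ([377,72,70], 259, [18,22,24,21,26,18,28]), ([60], 134, [20,22,24,20,27,18])], [528]⟩
def c288 : Clm := ⟨18, 18, true, [19,7,11,9,26,11,27], [18,21,22,24,20,27,18,28,7,3,29,7,21], 5, [([], 287, [])], []⟩
def c289 : Clm := ⟨18, 5, true, [18,21,22,24,20,26,28,11,21,7,28], [24,26,28,20,1,7,11,9,26,7,20], 9, [([], 126, [19,20,22,27,28]), ([63,63,58,60], 139, [24,21,26]), ([568,256,532,256,532,256], 274, [16,20,22,25,21]), ([70,74], 114, [24,27,18,29])], [234]⟩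
def c290 : Clm := ⟨5, 18, true, [24,26,28,20,1,7,11,9,26,7,20], [18,21,22,24,20,26,28,11,21,7,28], 5, [([], 289, [])], []⟩
def c291 : Clm := ⟨30, 18, true, [22,24,26,19,29,11,21,7,28], [21,24,20,26,18,7,11,20,24,30], 9, [([], 165, [21,22,24,20,26,19,28]), ([74], 114, [20]), ([234,402,88,86], 289, [24,21,26,29,18]), ([532,256,532,530,256], 288, [24,21,27,29,21])], []⟩
def c292 : Clm := ⟨18, 30, true, [21,24,20,26,18,7,11,20,24,30], [22,24,26,19,29,11,21,7,28], 5, [([], 291, [])], []⟩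
def c293 : Clm := ⟨30, 3, false, [22,24,26,19,29,11,21,7,28], [20,22,25,21,27,7,3,29,11], 3, [([], 292, []), ([530,256,532,256,532,530], 127, [24,20,26,19,28])], []⟩
def c294 : Clm := ⟨3, 4, true, [20,22,25,21,27,7,3,29,11], [15,21,26,11], 4, [([587], 166, [])], []⟩
def c295 : Clm := ⟨4, 12, false, [15,21,26,11], [19,26,29,19,11,20,27], 3, [([], 294, []), ([62], 63, [21,24,28,21])], []⟩
def c296 : Clm := ⟨3, 3, true, [19,20,22,25,21,29,7,9,21,11], [16,20,22,25,21,11,26,7], 4, [([587], 167, [])], [586]⟩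
def c297 : Clm := ⟨3, 11, false, [16,20,22,25,21,11,26,7], [22,24,27,19,29,19,7,19,20,7], 3, [([], 296, []), ([62], 62, [19,24,20,28])], []⟩
def c298 : Clm := ⟨5, 23, false, [18,26,29,19,20,11,21,7,5], [24,21,27,18,29,11,21], 8, [([], 118, [20,26]), ([70], 165, [19,20,24,20]), ([586,63,60,58], 138, [26,29,19,27]), ([568,532,256,532,256], 273, [22,27,29,19]), ([70], 144, [19,20,22,24,27,19,28,21])], []⟩
def c299 : Clm := ⟨5, 4, true, [19,21,24,20,26,28,7,21], [21,27,19,7,11,18], 4, [([596], 145, [])], []⟩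
def c300 : Clm := ⟨5, 24, true, [21,24,20,26,18,7], [16,22,1], 4, [([596], 148, [])], []⟩
def c301 : Clm := ⟨24, 4, false, [16,22,1], [26,18,28,20,24,1,7,21,11], 3, [([], 300, []), ([82], 299, [22,26,28,19,27])], []⟩
def c302 : Clm := ⟨18, 18, true, [20,24,26,28,21,7,5,28], [19,27,29,19,7,11,13,26,11], 9, [([], 278, [24,21,26,19,29]), ([60,58,60,58,60], 75, [18,22,26,18,28,20,25]), ([174], 65, [18,20,22,25,21,26,19]), ([234,88,82,86,84], 220, [19,29,19,26])], [528]⟩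
def c303 : Clm := ⟨1, 1, true, [8,6,4,8], [19,22,24,20,28,7,18,20,11], 4, [([], 15, [])], [52]⟩
def c304 : Clm := ⟨1, 3, true, [12,8,6,4,8], [20,22,26,18,29,7,3,18,7], 4, [([], 47, [])], [165]⟩
def c305 : Clm := ⟨3, 5, true, [8], [18,21,24,28,21,7,3,19,7], 4, [([], 64, [])], [234]⟩
def c306 : Clm := ⟨3, 4, true, [4,8], [19,21,22,24,21,26,11,21,7,5], 4, [([], 69, [])], [216]⟩
def c307 : Clm := ⟨3, 4, true, [12,8], [18,22,24,21,26,18,29,1,7,11,21], 4, [([], 124, [])], [514]⟩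
def c308 : Clm := ⟨3, 3, true, [10,12,8], [15,19,20,27,18,11,20,7,9], 4, [([], 57, [])], [422]⟩
def c309 : Clm := ⟨3, 4, true, [10,12,8,2], [18,20,24,20,27,28,18,7,5,28], 4, [([], 59, [])], [415]⟩
def c310 : Clm := ⟨3, 3, true, [8,6,4,8], [18,20,22,24,21,27,7,3,18,7], 4, [([], 74, [])], [174]⟩
def c311 : Clm := ⟨3, 3, true, [18,12,8], [16,19,22,25,21,7,21,11,21], 4, [([], 62, [])], [595]⟩
def c312 : Clm := ⟨3, 4, true, [12,28,8], [19,22,26,28,20,25,1,11], 4, [([], 63, [])], [591]⟩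
def c313 : Clm := ⟨3, 1, true, [8,18,4,8], [16,22,25,7,3,11,18,7], 4, [([], 53, [])], [169]⟩
def c314 : Clm := ⟨3, 4, true, [18,12,4,8], [20,22,24,29,21,1,7,11,26], 4, [([], 131, [])], [427]⟩
def c315 : Clm := ⟨3, 4, true, [12,8,6,4,8], [19,21,22,24,26,18,29,20,11,21,7,19], 4, [([], 88, [])], [240]⟩
def c316 : Clm := ⟨3, 3, true, [8,28,4,8], [18,22,27,29,18,11,21,7,18], 4, [([], 55, [])], [173]⟩
def c317 : Clm := ⟨3, 18, true, [12,28,4,8], [19,20,22,24,21,28,7,3,18,7,20], 4, [([], 133, [])], [528]⟩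
def c318 : Clm := ⟨3, 5, true, [22,24,26,29,21,7,11,13,26,11], [20,22,25,27,19,11,21,7,28], 4, [([], 101, [])], [234]⟩
def c319 : Clm := ⟨3, 18, true, [8,10,12,6,8], [24,26,19,28,7,20,5,11], 4, [([], 138, [])], [568]⟩
def c320 : Clm := ⟨3, 4, true, [4,8,10,12,6,8], [18,20,26,28,1,7,20,7,11,18], 4, [([], 141, [])], [377]⟩
def c321 : Clm := ⟨4, 4, true, [8], [15,20,22,28,21,7,21,28], 4, [([], 173, [])], [360]⟩
def c322 : Clm := ⟨4, 4, true, [21,27,18,7,9], [20,22,26,29,21,25,7,18], 4, [([], 178, [])], [360]⟩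
def c323 : Clm := ⟨4, 18, true, [22,26,19,28,21,1,7,21,7], [21,22,27,28,18,7,3,18,7,20], 4, [([], 214, [])], [528]⟩
def c324 : Clm := ⟨4, 3, true, [21,22,24,21,27,28,1,11,21,11], [19,20,22,25,26,7,11,9,28,19], 4, [([], 197, [])], [419]⟩
def c325 : Clm := ⟨4, 4, true, [10,12,8,2], [16,18,20,22,25,7,11,13,20,30], 4, [([], 153, [])], [493]⟩
def c326 : Clm := ⟨4, 5, true, [18,10,12,8], [20,22,24,27,19,28,21,7,11,21,29,7], 4, [([], 157, [])], [400]⟩
def c327 : Clm := ⟨4, 4, true, [10,12,28,8], [20,22,24,20,26,28,19,11,27,7], 4, [([], 161, [])], [412]⟩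
def c328 : Clm := ⟨4, 3, true, [31,19,8], [19,20,22,27,18,7,11,30,20], 4, [([], 164, [])], [419]⟩
def c329 : Clm := ⟨4, 18, true, [19,27,29,18,7,11,9,29,7,30], [19,20,22,27,19,28,1,11,20,7,9], 4, [([], 225, [])], [528]⟩
def c330 : Clm := ⟨4, 3, true, [26,21,12], [20,22,25,21,27,7,3,29,11], 4, [([], 165, [])], [586]⟩
def c331 : Clm := ⟨4, 4, true, [19,22,26,19,28,7,11,20,7,20,29], [19,22,27,18,29,20,1,7,11,21,7], 4, [([], 183, [])], [377]⟩
def c332 : Clm := ⟨4, 4, true, [18,20,22,25,21,27,19,7,11,13,26,11], [18,24,26,28,21,25,11,21,7,11,24], 4, [([], 182, [])], [377]⟩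
def c333 : Clm := ⟨4, 4, true, [19,21,22,26,18,28,7,11,9,26,7,22], [19,24,20,26,18,7,3,11,29,7,20], 4, [([], 223, [])], [493]⟩
def c334 : Clm := ⟨4, 18, true, [24,21,29,19,26,7,20,7], [20,22,24,20,1,11,21], 4, [([], 252, [])], [528]⟩
def c335 : Clm := ⟨4, 5, true, [18,20,25,21,11,21,7], [19,21,22,25,7,3,19,7,21], 4, [([], 113, [])], [234]⟩
def c336 : Clm := ⟨4, 18, true, [18,20,22,24,21,1,7,11,21,24], [20,22,24,26,18,29,7,3,5,7,20], 4, [([], 221, [])], [568]⟩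
def c337 : Clm := ⟨4, 18, true, [19,22,26,29,18,11,21,7,11,28], [26,19,29,19,11,20,7,9,11], 4, [([], 216, [])], [528]⟩
def c338 : Clm := ⟨4, 18, true, [22,26,28,18,27,7,22,7,20,11], [15,19,22,29,7,19,20,11], 4, [([], 254, [])], [528]⟩
def c339 : Clm := ⟨4, 25, true, [20,18,12,8], [18,20,24,21,26,28,19,11,21,7,19], 4, [([], 168, [])], [488]⟩
def c340 : Clm := ⟨4, 4, true, [2,20,12,8], [19,21,24,20,26,29,19,1,7,11,9,27], 4, [([], 170, [])], [496]⟩
def c341 : Clm := ⟨4, 5, true, [21,8,27,12], [19,21,24,20,26,28,7,21], 4, [([], 144, [])], [597]⟩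
def c342 : Clm := ⟨4, 4, true, [21,8,26,12], [26,18,28,20,24,1,7,21,11], 4, [([], 146, [])], [602]⟩
def c343 : Clm := ⟨5, 18, true, [18,24,27,19,29,1,7,22], [18,21,25,20,29,7,5,20], 4, [([], 219, [])], [528]⟩
def c344 : Clm := ⟨18, 4, true, [16,22,1], [18,22,24,21,26,18,29,7,11,19,21], 4, [([], 129, [])], [514]⟩
def c345 : Clm := ⟨25, 4, true, [15,1], [16,18,20,22,25,7,11,13,20], 4, [([], 156, [])], [493]⟩
def c346 : Clm := ⟨25, 18, true, [20,22,25,29,11,21,7,26], [20,22,24,21,26,19,28,7,9,11,21,30,7], 4, [([], 236, [])], [528]⟩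

noncomputable def cl0 (y : ℕ) : Clm := (selA 8 y (selA 4 y (selA 2 y (selA 1 y c0 c1) (selA 3 y c2 c3)) (selA 6 y (selA 5 y c4 c5) (selA 7 y c6 c7))) (selA 12 y (selA 10 y (selA 9 y c8 c9) (selA 11 y c10 c11)) (selA 14 y (selA 13 y c12 c13) (selA 15 y c14 c15))))

noncomputable def cl1 (y : ℕ) : Clm := (selA 24 y (selA 20 y (selA 18 y (selA 17 y c16 c17) (selA 19 y c18 c19)) (selA 22 y (selA 21 y c20 c21) (selA 23 y c22 c23))) (selA 28 y (selA 26 y (selA 25 y c24 c25) (selA 27 y c26 c27)) (selA 30 y (selA 29 y c28 c29) (selA 31 y c30 c31))))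

noncomputable def cl2 (y : ℕ) : Clm := (selA 40 y (selA 36 y (selA 34 y (selA 33 y c32 c33) (selA 35 y c34 c35)) (selA 38 y (selA 37 y c36 c37) (selA 39 y c38 c39))) (selA 44 y (selA 42 y (selA 41 y c40 c41) (selA 43 y c42 c43)) (selA 46 y (selA 45 y c44 c45) (selA 47 y c46 c47))))

noncomputable def cl3 (y : ℕ) : Clm := (selA 56 y (selA 52 y (selA 50 y (selA 49 y c48 c49) (selA 51 y c50 c51)) (selA 54 y (selA 53 y c52 c53) (selA 55 y c54 c55))) (selA 60 y (selA 58 y (selA 57 y c56 c57) (selA 59 y c58 c59)) (selA 62 y (selA 61 y c60 c61) (selA 63 y c62 c63))))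

noncomputable def cl4 (y : ℕ) : Clm := (selA 72 y (selA 68 y (selA 66 y (selA 65 y c64 c65) (selA 67 y c66 c67)) (selA 70 y (selA 69 y c68 c69) (selA 71 y c70 c71))) (selA 76 y (selA 74 y (selA 73 y c72 c73) (selA 75 y c74 c75)) (selA 78 y (selA 77 y c76 c77) (selA 79 y c78 c79))))

noncomputable def cl5 (y : ℕ) : Clm := (selA 88 y (selA 84 y (selA 82 y (selA 81 y c80 c81) (selA 83 y c82 c83)) (selA 86 y (selA 85 y c84 c85) (selA 87 y c86 c87))) (selA 92 y (selA 90 y (selA 89 y c88 c89) (selA 91 y c90 c91)) (selA 94 y (selA 93 y c92 c93) (selA 95 y c94 c95))))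

noncomputable def cl6 (y : ℕ) : Clm := (selA 104 y (selA 100 y (selA 98 y (selA 97 y c96 c97) (selA 99 y c98 c99)) (selA 102 y (selA 101 y c100 c101) (selA 103 y c102 c103))) (selA 108 y (selA 106 y (selA 105 y c104 c105) (selA 107 y c106 c107)) (selA 110 y (selA 109 y c108 c109) (selA 111 y c110 c111))))

noncomputable def cl7 (y : ℕ) : Clm := (selA 120 y (selA 116 y (selA 114 y (selA 113 y c112 c113) (selA 115 y c114 c115)) (selA 118 y (selA 117 y c116 c117) (selA 119 y c118 c119))) (selA 124 y (selA 122 y (selA 121 y c120 c121) (selA 123 y c122 c123)) (selA 126 y (selA 125 y c124 c125) (selA 127 y c126 c127))))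

noncomputable def cl8 (y : ℕ) : Clm := (selA 136 y (selA 132 y (selA 130 y (selA 129 y c128 c129) (selA 131 y c130 c131)) (selA 134 y (selA 133 y c132 c133) (selA 135 y c134 c135))) (selA 140 y (selA 138 y (selA 137 y c136 c137) (selA 139 y c138 c139)) (selA 142 y (selA 141 y c140 c141) (selA 143 y c142 c143))))

noncomputable def cl9 (y : ℕ) : Clm := (selA 152 y (selA 148 y (selA 146 y (selA 145 y c144 c145) (selA 147 y c146 c147)) (selA 150 y (selA 149 y c148 c149) (selA 151 y c150 c151))) (selA 156 y (selA 154 y (selA 153 y c152 c153) (selA 155 y c154 c155)) (selA 158 y (selA 157 y c156 c157) (selA 159 y c158 c159))))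

noncomputable def cl10 (y : ℕ) : Clm := (selA 168 y (selA 164 y (selA 162 y (selA 161 y c160 c161) (selA 163 y c162 c163)) (selA 166 y (selA 165 y c164 c165) (selA 167 y c166 c167))) (selA 172 y (selA 170 y (selA 169 y c168 c169) (selA 171 y c170 c171)) (selA 174 y (selA 173 y c172 c173) (selA 175 y c174 c175))))

noncomputable def cl11 (y : ℕ) : Clm := (selA 184 y (selA 180 y (selA 178 y (selA 177 y c176 c177) (selA 179 y c178 c179)) (selA 182 y (selA 181 y c180 c181) (selA 183 y c182 c183))) (selA 188 y (selA 186 y (selA 185 y c184 c185) (selA 187 y c186 c187)) (selA 190 y (selA 189 y c188 c189) (selA 191 y c190 c191))))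

noncomputable def cl12 (y : ℕ) : Clm := (selA 200 y (selA 196 y (selA 194 y (selA 193 y c192 c193) (selA 195 y c194 c195)) (selA 198 y (selA 197 y c196 c197) (selA 199 y c198 c199))) (selA 204 y (selA 202 y (selA 201 y c200 c201) (selA 203 y c202 c203)) (selA 206 y (selA 205 y c204 c205) (selA 207 y c206 c207))))

noncomputable def cl13 (y : ℕ) : Clm := (selA 216 y (selA 212 y (selA 210 y (selA 209 y c208 c209) (selA 211 y c210 c211)) (selA 214 y (selA 213 y c212 c213) (selA 215 y c214 c215))) (selA 220 y (selA 218 y (selA 217 y c216 c217) (selA 219 y c218 c219)) (selA 222 y (selA 221 y c220 c221) (selA 223 y c222 c223))))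

noncomputable def cl14 (y : ℕ) : Clm := (selA 232 y (selA 228 y (selA 226 y (selA 225 y c224 c225) (selA 227 y c226 c227)) (selA 230 y (selA 229 y c228 c229) (selA 231 y c230 c231))) (selA 236 y (selA 234 y (selA 233 y c232 c233) (selA 235 y c234 c235)) (selA 238 y (selA 237 y c236 c237) (selA 239 y c238 c239))))

noncomputable def cl15 (y : ℕ) : Clm := (selA 248 y (selA 244 y (selA 242 y (selA 241 y c240 c241) (selA 243 y c242 c243)) (selA 246 y (selA 245 y c244 c245) (selA 247 y c246 c247))) (selA 252 y (selA 250 y (selA 249 y c248 c249) (selA 251 y c250 c251)) (selA 254 y (selA 253 y c252 c253) (selA 255 y c254 c255))))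

noncomputable def cl16 (y : ℕ) : Clm := (selA 264 y (selA 260 y (selA 258 y (selA 257 y c256 c257) (selA 259 y c258 c259)) (selA 262 y (selA 261 y c260 c261) (selA 263 y c262 c263))) (selA 268 y (selA 266 y (selA 265 y c264 c265) (selA 267 y c266 c267)) (selA 270 y (selA 269 y c268 c269) (selA 271 y c270 c271))))

noncomputable def cl17 (y : ℕ) : Clm := (selA 280 y (selA 276 y (selA 274 y (selA 273 y c272 c273) (selA 275 y c274 c275)) (selA 278 y (selA 277 y c276 c277) (selA 279 y c278 c279))) (selA 284 y (selA 282 y (selA 281 y c280 c281) (selA 283 y c282 c283)) (selA 286 y (selA 285 y c284 c285) (selA 287 y c286 c287))))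

noncomputable def cl18 (y : ℕ) : Clm := (selA 296 y (selA 292 y (selA 290 y (selA 289 y c288 c289) (selA 291 y c290 c291)) (selA 294 y (selA 293 y c292 c293) (selA 295 y c294 c295))) (selA 300 y (selA 298 y (selA 297 y c296 c297) (selA 299 y c298 c299)) (selA 302 y (selA 301 y c300 c301) (selA 303 y c302 c303))))

noncomputable def cl19 (y : ℕ) : Clm := (selA 312 y (selA 308 y (selA 306 y (selA 305 y c304 c305) (selA 307 y c306 c307)) (selA 310 y (selA 309 y c308 c309) (selA 311 y c310 c311))) (selA 316 y (selA 314 y (selA 313 y c312 c313) (selA 315 y c314 c315)) (selA 318 y (selA 317 y c316 c317) (selA 319 y c318 c319))))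

noncomputable def cl20 (y : ℕ) : Clm := (selA 328 y (selA 324 y (selA 322 y (selA 321 y c320 c321) (selA 323 y c322 c323)) (selA 326 y (selA 325 y c324 c325) (selA 327 y c326 c327))) (selA 332 y (selA 330 y (selA 329 y c328 c329) (selA 331 y c330 c331)) (selA 334 y (selA 333 y c332 c333) (selA 335 y c334 c335))))

noncomputable def cl21 (y : ℕ) : Clm := (selA 341 y (selA 338 y (selA 337 y c336 c337) (selA 339 y c338 (selA 340 y c339 c340))) (selA 344 y (selA 342 y c341 (selA 343 y c342 c343)) (selA 345 y c344 (selA 346 y c345 c346))))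

noncomputable def cl (y : ℕ) : Clm := (selA 176 y (selA 80 y (selA 32 y (selA 16 y (cl0 y) (cl1 y)) (selA 48 y (cl2 y) (selA 64 y (cl3 y) (cl4 y)))) (selA 128 y (selA 96 y (cl5 y) (selA 112 y (cl6 y) (cl7 y))) (selA 144 y (cl8 y) (selA 160 y (cl9 y) (cl10 y))))) (selA 256 y (selA 208 y (selA 192 y (cl11 y) (cl12 y)) (selA 224 y (cl13 y) (selA 240 y (cl14 y) (cl15 y)))) (selA 304 y (selA 272 y (cl16 y) (selA 288 y (cl17 y) (cl18 y))) (selA 320 y (cl19 y) (selA 336 y (cl20 y) (cl21 y))))))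

def gwL : List (List ℕ) := [[], [32], [32,8,6,4,8,32], [32,8,32], [32,12,8,32], [32,12,8,2,32], [32,12,8,6,4,8,32], [32,8,32,8,18,4,8,32], [32,8,32,8,28,4,8,32], [32,8,32,10,12,8,32], [32,8,32,10,12,8,2,32], [32,8,32,18,12,8,32], [32,8,32,12,28,8,32], [32,8,32,8,32], [32,8,32,4,8,32], [32,8,32,8,6,4,8,32], [32,8,32,12,8,6,4,8,32], [32,8,32,12,8,32], [32,8,32,12,8,2,32], [32,8,32,18,12,4,8,32], [32,8,32,12,28,4,8,32], [32,8,32,8,10,12,6,8,32], [32,8,32,4,8,10,12,6,8,32], [32,12,8,32,21,8,27,12,32], [32,12,8,32,21,8,26,12,32], [32,12,8,32,10,12,8,32], [32,12,8,32,10,12,8,2,32], [32,12,8,32,18,10,12,8,32], [32,12,8,32,10,12,28,8,32], [32,12,8,32,31,19,8,32], [32,12,8,32,26,21,12,32], [32,12,8,32,20,18,12,8,32], [32,12,8,32,2,20,12,8,32], [32,12,8,32,8,32]]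

noncomputable def D : Dce where
  inv := 952403558328675698909383049765206550258025377119819542410299382538192440921227776
  m := 32
  T := 32
  TI := 33
  KL := [15,16,17,18,19,20,21,22,23,24,25,26,27,28,29]
  ax := [[1], [3], [5], [7], [9], [11], [13]]
  sg := [[], [], [], [], [], [], [], [], [], [], [], [], [], [], [], [16], [15], [15], [20], [21], [18], [19], [22], [23], [26], [27], [24], [25], [29], [28]]
  chk := fixB P.img 32 P.bs
  pats := [([], false), ([33,32], false), ([32], true), ([33], true), ([32,30,32,30,32,30], false), ([31,33,31,33,31], true), ([32,7,3,5,1,7,5,9,7,32,7,3,5,1,7,5,9,7,32,7,3,5,1,7,5,9,7,32,7,3,5,1,7,5,9,7,32,7,3,5,1,7,5,9,7], false), ([8,10,6,8,2,6,4,8,33,8,10,6,8,2,6,4,8,33,8,10,6,8,2,6,4,8,33,8,10,6,8,2,6,4,8,33,8,10,6,8,2,6,4,8], true)]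
  gw := nthW gwL
  cl := cl


end Cfsg.H6.Co3.D2
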